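import Groth.Agent.Lib.RegLoc.Basic
import Mathlib.RingTheory.Ideal.KrullsHeightTheorem

/-!
# Smooth curve germs through a regular point avoiding a hypersurface
-/

set_option autoImplicit false
universe u

open IsLocalRing

namespace GrothLib.MoveZero4

/-- A regular local ring of positive dimension has, for every nonzero `g`, a prime `P ∌ g` whose
quotient is one dimensional with maximal ideal generated by one element. -/
theorem exists_curve_prime : ∀ (n : ℕ) (R : Type u) [CommRing R] [IsRegularLocalRing R],
    ringKrullDim R = ((n + 1 : ℕ) : WithBot ℕ∞) → ∀ g : R, g ≠ 0 →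
    ∃ (P : Ideal R) (a : R), P.IsPrime ∧ g ∉ P ∧ a ∈ maximalIdeal R ∧ ringKrullDim (R ⧸ P) = 1 ∧
      maximalIdeal R ≤ P ⊔ Ideal.span {a} := by
  intro n
  induction n with
  | zero =>
    intro R _ _ hd g hg
    haveI := GrothLib.CMFree.isDomain_of_isRegularLocalRing R
    have hs : (maximalIdeal R).spanFinrank = 1 := by
      have h := (isRegularLocalRing_iff R).1 inferInstance
      rw [hd] at h
      exact_mod_cast h
    obtain ⟨a, ha⟩ := ((Submodule.spanFinrank_eq_one_iff (maximalIdeal R)).1 hs).1.principal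
    refine ⟨⊥, a, Ideal.isPrime_bot, hg, ha.symm ▸ Ideal.mem_span_singleton_self a, ?_, ?_⟩
    · rw [ringKrullDim_eq_of_ringEquiv (RingEquiv.quotientBot R), hd]
      rfl
    · rw [bot_sup_eq]
      exact ha.le
  | succ n ih =>
    intro R _ _ hd g hg
    classical
    haveI := GrothLib.CMFree.isDomain_of_isRegularLocalRing R
    have hfin : (Ideal.span {g}).minimalPrimes.Finite := Ideal.finite_minimalPrimes_of_isNoetherianRing R _
    have hJ : maximalIdeal R ≤ (⊥ : Ideal R).jacobson := maximalIdeal_le_jacobson _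
    have hh : (maximalIdeal R).height = (n + 2 : ℕ) := by
      have h := IsLocalRing.maximalIdeal_height_eq_ringKrullDim (R := R)
      rw [hd] at h
      exact_mod_cast h
    obtain ⟨x, hx, hxn⟩ : ∃ x ∈ maximalIdeal R,
        x ∉ ⋃ i ∈ insert (maximalIdeal R ^ 2) hfin.toFinset, (i : Set R) := by
      by_contra hc
      push Not at hc
      obtain ⟨i, hi, hle⟩ := (Ideal.subset_union_prime (maximalIdeal R ^ 2) (maximalIdeal R ^ 2)
        (fun i hi h1 _ =>
          (hfin.mem_toFinset.1 ((Finset.mem_insert.1 hi).resolve_left h1)).1.1)).1 hc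
      rcases Finset.mem_insert.1 hi with rfl | hi
      · have h0 : maximalIdeal R = ⊥ :=
          Submodule.eq_bot_of_le_smul_of_le_jacobson_bot (maximalIdeal R) _
            (maximalIdeal R).fg_of_isNoetherianRing (hle.trans (by rw [pow_two]; rfl)) hJ
        rw [h0, Ideal.height_bot] at hh
        norm_cast at hh
      · have h1 : i.height ≤ 1 :=
          Ideal.height_le_one_of_isPrincipal_of_mem_minimalPrimes (Ideal.span {g}) i (hfin.mem_toFinset.1 hi)
        have h2 := (Ideal.height_mono hle).trans h1
        rw [hh] at h2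
        norm_cast at h2
    simp only [Set.mem_iUnion, SetLike.mem_coe, not_exists] at hxn
    have hx2 : x ∉ maximalIdeal R ^ 2 := hxn _ (Finset.mem_insert_self _ _)
    obtain ⟨hS, hdim, -⟩ := GrothLib.RegLoc.quotient_isRegularLocalRing hx hx2
    haveI := hS
    haveI := GrothLib.CMFree.isDomain_of_isRegularLocalRing (R ⧸ Ideal.span {x})
    haveI : (Ideal.span {x}).IsPrime := (Ideal.Quotient.isDomain_iff_prime _).1 inferInstance
    let q : R →+* R ⧸ Ideal.span {x} := Ideal.Quotient.mk _
    have hq : Function.Surjective q := Ideal.Quotient.mk_surjective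
    have hg' : q g ≠ 0 := by
      intro h0
      obtain ⟨p, hp, hpx⟩ := Ideal.exists_minimalPrimes_le (J := Ideal.span {x})
        ((Ideal.span_singleton_le_iff_mem _).2 (Ideal.Quotient.eq_zero_iff_mem.1 h0))
      have hxp : x ∉ p := hxn p (Finset.mem_insert_of_mem (hfin.mem_toFinset.2 hp))
      haveI : p.IsPrime := hp.1.1
      have h0 : p = ⊥ := by
        refine Submodule.eq_bot_of_le_smul_of_le_jacobson_bot (Ideal.span {x}) p
          p.fg_of_isNoetherianRing (fun r hr => ?_)
          (((Ideal.span_singleton_le_iff_mem _).2 hx).trans hJ)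
        obtain ⟨s, rfl⟩ := Ideal.mem_span_singleton'.1 (hpx hr)
        rw [mul_comm]
        exact Submodule.smul_mem_smul (Ideal.mem_span_singleton_self x)
          ((Ideal.IsPrime.mem_or_mem ‹p.IsPrime› hr).resolve_right hxp)
      exact hg (by simpa [h0] using hp.1.2 (Ideal.mem_span_singleton_self g))
    have hd' : ringKrullDim (R ⧸ Ideal.span {x}) = ((n + 1 : ℕ) : WithBot ℕ∞) := by
      refine ENat.WithBot.add_natCast_cancel (c := 1) |>.1 ?_
      rw [Nat.cast_one, hdim, hd]
      norm_cast
    obtain ⟨P, a, hP, hgP, ham, hdP, hle⟩ := ih _ hd' (q g) hg'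
    obtain ⟨a, rfl⟩ := hq a
    haveI := hP
    refine ⟨P.comap q, a, inferInstance, hgP, (mem_maximalIdeal a).2 fun hu => (mem_maximalIdeal _).1 ham (hu.map q),
      ?_, fun r hr => ?_⟩
    · have hs : Function.Surjective ((Ideal.Quotient.mk P).comp q) := Ideal.Quotient.mk_surjective.comp hq
      have hk : RingHom.ker ((Ideal.Quotient.mk P).comp q) = P.comap q := by
        rw [← RingHom.comap_ker, Ideal.mk_ker]
      rw [← hdP]
      exact ringKrullDim_eq_of_ringEquiv
        ((Ideal.quotEquivOfEq hk.symm).trans (RingHom.quotientKerEquivOfSurjective hs))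
    · have h1 : q r ∈ maximalIdeal (R ⧸ Ideal.span {x}) := by
        haveI : IsLocalHom q := .of_surjective q hq
        exact map_nonunit q r hr
      obtain ⟨b, hb, c, hc, hbc⟩ := Submodule.mem_sup.1 (hle h1)
      obtain ⟨d, rfl⟩ := Ideal.mem_span_singleton'.1 hc
      obtain ⟨d, rfl⟩ := hq d
      refine Submodule.mem_sup.2 ⟨r - d * a, ?_, d * a, Ideal.mul_mem_left _ _ (Ideal.mem_span_singleton_self a),
        sub_add_cancel _ _⟩
      show q (r - d * a) ∈ P
      rw [map_sub, map_mul, ← hbc, add_sub_cancel_right]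
      exact hb

end GrothLib.MoveZero4
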