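import Groth.Agent.Lib.MoveZero4.Alg
import Groth.Agent.Lib.CycAff.Span
import Groth.Agent.Lib.CycDiv.Support
import Groth.Agent.Lib.WeilFinite6.GroupAffine
import Mathlib.RingTheory.Nakayama

/-!
# Moving a closed point into an open set along a smooth curve germ
-/

set_option autoImplicit false
set_option maxHeartbeats 400000
set_option linter.style.haveILetI false
universe u

open CategoryTheory AlgebraicGeometry IsLocalRing GrothLib.CycDiv

namespace GrothLib.MoveZero4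

variable {X : Scheme.{u}}

theorem specMap_germ {x ξ : X} (h : ξ ⤳ x) {A : X.Opens} (hx : x ∈ A) (hξ : ξ ∈ A) (b : Γ(X, A)) :
    Cyc.specMap x ξ h (X.presheaf.germ A x hx b) = X.residue ξ (X.presheaf.germ A ξ hξ b) := by
  show X.residue ξ ((X.presheaf.stalkSpecializes h).hom ((X.presheaf.germ A x hx).hom b)) = _
  refine congrArg (X.residue ξ).hom ?_
  exact congr($(X.presheaf.germ_stalkSpecializes hx h).hom b)

/-- A uniformiser modulo the prime of the curve has order one. -/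
theorem ordAt_eq_one_of_sup [IsLocallyNoetherian X] {δ : X → ℤ} (hδ : Cyc.IsDimFun X δ) {x ξ : X}
    (h : ξ ⤳ x) (hd : δ x + 1 = δ ξ) {a : X.presheaf.stalk x} (ha' : a ∉ primeOf h)
    (ha : maximalIdeal (X.presheaf.stalk x) ≤ primeOf h ⊔ Ideal.span {a})
    (ham : a ∈ maximalIdeal (X.presheaf.stalk x)) :
    Cyc.ordAt x ξ h (Cyc.specMap x ξ h a) = 1 := by
  have hone : (1 : X.presheaf.stalk x) ∉ primeOf h :=
    fun hc => (inferInstance : (primeOf h).IsPrime).ne_top ((Ideal.eq_top_iff_one _).2 hc)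
  rw [ordAt_eq_sub hδ h hd ha' hone (by rw [map_one, mul_one]), Ring.ord_of_isUnit (isUnit_one.map _)]
  let f : X.presheaf.stalk x →+* Cyc.LocQuot x ξ h := Ideal.Quotient.mk _
  have hf : Function.Surjective f := Ideal.Quotient.mk_surjective
  haveI : IsLocalRing (Cyc.LocQuot x ξ h) := .of_surjective' f hf
  haveI : IsLocalHom f := .of_surjective f hf
  have hmax : (maximalIdeal (X.presheaf.stalk x)).map f = maximalIdeal (Cyc.LocQuot x ξ h) :=
    IsLocalRing.map_maximalIdeal_of_surjective f hf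
  have hspan : Ideal.span {f a} = maximalIdeal (Cyc.LocQuot x ξ h) := by
    refine le_antisymm ((Ideal.span_singleton_le_iff_mem _).2 (map_nonunit f a ham)) ?_
    rw [← hmax]
    refine (Ideal.map_mono ha).trans ?_
    rw [Ideal.map_sup, Ideal.map_span, Set.image_singleton, show (primeOf h).map f = ⊥ from Ideal.map_quotient_self _,
      bot_sup_eq]
  haveI : IsSimpleModule (Cyc.LocQuot x ξ h) (Cyc.LocQuot x ξ h ⧸ maximalIdeal (Cyc.LocQuot x ξ h)) :=
    isSimpleModule_iff_isCoatom.2 (IsLocalRing.maximalIdeal.isMaximal _).out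
  unfold Ring.ord
  rw [show Ideal.span {(Ideal.Quotient.mk (primeOf h)) a} = maximalIdeal _ from hspan, Module.length_eq_one]
  rfl

theorem isClosed_of_delta_zero {δ : X → ℤ} (hδ : Cyc.IsDimFun X δ) (hpos : ∀ x, 0 ≤ δ x) {x : X}
    (hx : δ x = 0) : IsClosed ({x} : Set X) := by
  refine closure_eq_iff_isClosed.1 (subset_antisymm (fun y hy => ?_) subset_closure)
  by_contra hne
  have h1 := (hδ x y (specializes_iff_mem_closure.2 hy) (fun e => hne e.symm)).1
  have h2 := hpos y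
  omega

/-- A closed point off `U` is, modulo principal divisors, supported in `U`. -/
theorem exists_move [IsNoetherian X] [IsIntegral X] {δ : X → ℤ} (hδ : Cyc.IsDimFun X δ)
    (hpos : ∀ x, 0 ≤ δ x) (hreg : ∀ x : X, IsRegularLocalRing (X.presheaf.stalk x))
    (haff : ∀ s : Finset X, ∃ A : X.Opens, IsAffineOpen A ∧ ∀ v ∈ s, v ∈ A)
    (U : X.Opens) (hU : (U : Set X).Nonempty) {w : X} (hw : δ w = 0) (hwU : w ∉ U) :
    ∃ a ∈ GrothLib.CycAff.Span δ 0, a w = 1 ∧ ∀ v, v ∉ U → v ≠ w → a v = 0 := by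
  classical
  haveI := hreg w
  have hηU : genericPoint X ∈ U := by
    obtain ⟨y, hy⟩ := hU
    exact (genericPoint_specializes y).mem_open U.2 hy
  have hηw : genericPoint X ⤳ w := genericPoint_specializes w
  have hQ : (⟨primeOf hηw, inferInstance⟩ : PrimeSpectrum (X.presheaf.stalk w)) ∈
      X.fromSpecStalk w ⁻¹' (U : Set X) := by
    show X.fromSpecStalk w ⟨primeOf hηw, inferInstance⟩ ∈ U
    rw [fromSpecStalk_primeOf hηw]
    exact hηU
  obtain ⟨_, ⟨g, rfl⟩, hgQ, hgU⟩ := PrimeSpectrum.isTopologicalBasis_basic_opens.exists_subset_of_mem_open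
    hQ (U.2.preimage (X.fromSpecStalk w).continuous)
  have hg0 : g ≠ 0 := fun e => hgQ (e ▸ Submodule.zero_mem _)
  obtain ⟨n, hn⟩ : ∃ n : ℕ, ringKrullDim (X.presheaf.stalk w) = ((n + 1 : ℕ) : WithBot ℕ∞) := by
    have h := (isRegularLocalRing_iff _).1 (hreg w)
    rcases Nat.eq_zero_or_pos (maximalIdeal (X.presheaf.stalk w)).spanFinrank with h0 | h0
    · exfalso
      have hbot : maximalIdeal (X.presheaf.stalk w) = ⊥ :=
        (Submodule.spanFinrank_eq_zero_iff_eq_bot (maximalIdeal _).fg_of_isNoetherianRing).1 h0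
      have he : primeOf hηw = maximalIdeal _ :=
        le_antisymm (le_maximalIdeal (inferInstance : (primeOf hηw).IsPrime).ne_top) (hbot ▸ bot_le)
      refine hwU ?_
      have h2 := fromSpecStalk_primeOf hηw
      simp only [he] at h2
      rw [show (⟨maximalIdeal _, _⟩ : PrimeSpectrum (X.presheaf.stalk w)) = closedPoint _ from rfl,
        Scheme.fromSpecStalk_closedPoint] at h2
      rw [h2]
      exact hηU
    · exact ⟨(maximalIdeal (X.presheaf.stalk w)).spanFinrank - 1, by rw [← h]; congr 2; omega⟩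
  obtain ⟨P, a, hP, hgP, ham, hdP, hle⟩ := exists_curve_prime n _ hn g hg0
  obtain ⟨ξ, hξdef⟩ : ∃ ξ, X.fromSpecStalk w ⟨P, hP⟩ = ξ := ⟨_, rfl⟩
  have hξU : ξ ∈ U := hξdef ▸ hgU hgP
  have hξw : ξ ⤳ w := hξdef ▸ GrothLib.CycBasic.specializes_fromSpecStalk _
  have hPe : primeOf hξw = P := by
    subst hξdef
    exact primeOf_fromSpecStalk ⟨P, hP⟩ _
  have hδξ : δ ξ = 1 := by
    have h1 := GrothLib.CycBasic.ringKrullDim_locQuot hδ w ξ hξw
    have h2 : ringKrullDim (Cyc.LocQuot w ξ hξw) = 1 := by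
      rw [← hdP]
      exact ringKrullDim_eq_of_ringEquiv (Ideal.quotEquivOfEq hPe)
    rw [h2] at h1
    have h3 : 1 = (δ ξ - δ w).toNat := by exact_mod_cast h1
    omega
  -- the bad points of the curve
  let Z : Set X := closure {ξ} ∩ (U : Set X)ᶜ
  have hZ0 : ∀ v ∈ Z, δ v = 0 := fun v hv => by
    have h1 := (hδ ξ v (specializes_iff_mem_closure.2 hv.1) (fun e => hv.2 (e ▸ hξU))).1
    have h2 := hpos v
    omega
  have hZfin : Z.Finite := GrothLib.WeilFinite6.finite_of_forall_isClosed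
    (isClosed_closure.inter U.2.isClosed_compl) fun v hv => isClosed_of_delta_zero hδ hpos (hZ0 v hv)
  have hwZ : w ∈ Z := ⟨specializes_iff_mem_closure.1 hξw, hwU⟩
  obtain ⟨A, hA, hZA⟩ := haff hZfin.toFinset
  have hwA : w ∈ A := hZA w (hZfin.mem_toFinset.2 hwZ)
  have hξA : ξ ∈ A := hξw.mem_open A.2 hwA
  let pI : {v : X // v ∈ A} → Ideal Γ(X, A) := fun v => (hA.primeIdealOf ⟨v.1, v.2⟩).asIdeal
  letI := X.presheaf.algebra_section_stalk ⟨w, hwA⟩
  haveI := hA.isLocalization_stalk ⟨w, hwA⟩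
  -- a section which is a uniformiser at `w`
  obtain ⟨⟨s, t⟩, hst⟩ := IsLocalization.surj (pI ⟨w, hwA⟩).primeCompl a
  have hmax : ∀ v : {v : X // v ∈ A}, v.1 ∈ Z → (pI v).IsMaximal := fun v hv => by
    exact (hA.primeIdealOf_isMaximal_of_isClosed ⟨v.1, v.2⟩ (isClosed_of_delta_zero hδ hpos (hZ0 _ hv)))
  let S : Finset {v : X // v ∈ A} := (hZfin.toFinset.subtype (fun v => v ∈ A)).filter fun v => v.1 ≠ w
  have hS : ∀ v ∈ S, v.1 ∈ Z ∧ v.1 ≠ w := fun v hv => by
    obtain ⟨h1, h2⟩ := Finset.mem_filter.1 hv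
    exact ⟨hZfin.mem_toFinset.1 (Finset.mem_subtype.1 h1), h2⟩
  have hcop : pI ⟨w, hwA⟩ ^ 2 ⊔ ∏ v ∈ S, pI v = ⊤ := by
    refine Ideal.sup_prod_eq_top fun v hv => ?_
    rw [← Ideal.isCoprime_iff_sup_eq]
    refine IsCoprime.pow_left (Ideal.isCoprime_iff_sup_eq.2 ((hmax _ hwZ).coprime_of_ne (hmax v (hS v hv).1) ?_))
    intro e
    refine (hS v hv).2 ?_
    have h1 := congrArg (fun p => hA.fromSpec p)
      (PrimeSpectrum.ext (x := hA.primeIdealOf ⟨w, hwA⟩) (y := hA.primeIdealOf ⟨v.1, v.2⟩) e)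
    simp only [IsAffineOpen.fromSpec_primeIdealOf] at h1
    exact h1.symm
  obtain ⟨e, he, f, hf, hef⟩ := Submodule.mem_sup.1 (hcop.symm ▸ Submodule.mem_top : (1 : Γ(X, A)) ∈ _)
  obtain ⟨b, hb⟩ : ∃ b, b = f * s + e := ⟨_, rfl⟩
  have hunit : ∀ v ∈ S, b ∉ pI v := fun v hv hbv => by
    have hfv : f ∈ pI v := (Ideal.prod_le_inf.trans (Finset.inf_le hv)) hf
    have hev : e ∈ pI v := by
      have := Ideal.sub_mem _ hbv (Ideal.mul_mem_right s _ hfv)
      rwa [hb, add_sub_cancel_left] at this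
    exact (hmax v (hS v hv).1).ne_top ((Ideal.eq_top_iff_one _).2 (hef ▸ Ideal.add_mem _ hev hfv))
  let γ := algebraMap Γ(X, A) (X.presheaf.stalk w)
  have hmap : (pI ⟨w, hwA⟩).map γ = maximalIdeal (X.presheaf.stalk w) :=
    IsLocalization.AtPrime.map_eq_maximalIdeal (pI ⟨w, hwA⟩) (X.presheaf.stalk w)
  have hbs : γ b - γ s ∈ maximalIdeal (X.presheaf.stalk w) ^ 2 := by
    rw [← hmap, ← Ideal.map_pow, ← map_sub]
    refine Ideal.mem_map_of_mem γ ?_
    rw [show b - s = e * (1 - s) by rw [hb]; linear_combination s * hef]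
    exact Ideal.mul_mem_right _ _ he
  have hle' : maximalIdeal (X.presheaf.stalk w) ≤ P ⊔ Ideal.span {γ b} := by
    refine Submodule.le_of_le_smul_of_le_jacobson_bot (maximalIdeal (X.presheaf.stalk w)).fg_of_isNoetherianRing
      (maximalIdeal_le_jacobson _) (hle.trans (sup_le (le_sup_of_le_left le_sup_left) ?_))
    rw [Ideal.span_singleton_le_iff_mem]
    have hu : IsUnit (γ (t : Γ(X, A))) := IsLocalization.map_units _ t
    obtain ⟨u, hu⟩ := hu
    have ha2 : a = γ b * ↑u⁻¹ - (γ b - γ s) * ↑u⁻¹ := by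
      have : a * γ (t : Γ(X, A)) = γ s := hst
      rw [← hu] at this
      rw [← this]
      linear_combination (- a) * u.mul_inv
    rw [ha2]
    refine Submodule.sub_mem _ (Submodule.mem_sup_left (Submodule.mem_sup_right
      (Ideal.mul_mem_right _ _ (Ideal.mem_span_singleton_self _)))) (Submodule.mem_sup_right ?_)
    rw [smul_eq_mul, ← pow_two]
    exact Ideal.mul_mem_right _ _ hbs
  have hcP : γ b ∉ P := fun hc => by
    have h1 : P = maximalIdeal (X.presheaf.stalk w) :=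
      le_antisymm (le_maximalIdeal hP.ne_top) (hle'.trans (sup_le le_rfl ((Ideal.span_singleton_le_iff_mem _).2 hc)))
    subst h1
    rw [ringKrullDim_eq_zero_of_isField (Ideal.Quotient.maximal_ideal_iff_isField_quotient _ |>.1 inferInstance)] at hdP
    exact zero_ne_one hdP
  have hbw : b ∈ pI ⟨w, hwA⟩ := by
    rw [hb]
    refine Ideal.add_mem _ (Ideal.mul_mem_left _ _ ?_) (Ideal.pow_le_self two_ne_zero he)
    refine (IsLocalization.AtPrime.to_map_mem_maximal_iff (X.presheaf.stalk w) (pI ⟨w, hwA⟩) s).1 ?_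
    show γ s ∈ _
    rw [← show a * γ (t : Γ(X, A)) = γ s from hst]
    exact Ideal.mul_mem_right _ _ ham
  have hcm : γ b ∈ maximalIdeal (X.presheaf.stalk w) := hmap ▸ Ideal.mem_map_of_mem γ hbw
  let G := X.residue ξ (X.presheaf.germ A ξ hξA b)
  have hGw : G = Cyc.specMap w ξ hξw (γ b) := (specMap_germ hξw hwA hξA b).symm
  have hG0 : G ≠ 0 := by
    rw [hGw]
    exact fun h0 => hcP (hPe ▸ RingHom.mem_ker.2 h0)
  refine ⟨Cyc.divFun δ ξ G, AddSubgroup.subset_closure ⟨ξ, G, by omega, hG0, rfl⟩, ?_, fun v hvU hvw => ?_⟩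
  · rw [Cyc.divFun, dif_pos ⟨hξw, by omega⟩, hGw]
    exact ordAt_eq_one_of_sup hδ hξw (by omega) (hPe.symm ▸ hcP) (hPe.symm ▸ hle') hcm
  · rw [Cyc.divFun]
    split_ifs with hv
    · have hvZ : v ∈ Z := ⟨specializes_iff_mem_closure.1 hv.1, hvU⟩
      have hvA : v ∈ A := hZA v (hZfin.mem_toFinset.2 hvZ)
      have hvS : (⟨v, hvA⟩ : {v : X // v ∈ A}) ∈ S :=
        Finset.mem_filter.2 ⟨Finset.mem_subtype.2 (hZfin.mem_toFinset.2 hvZ), hvw⟩
      letI := X.presheaf.algebra_section_stalk ⟨v, hvA⟩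
      haveI := hA.isLocalization_stalk ⟨v, hvA⟩
      have hu : IsUnit (X.presheaf.germ A v hvA b) :=
        IsLocalization.map_units (M := (pI ⟨v, hvA⟩).primeCompl) (X.presheaf.stalk v) ⟨b, hunit _ hvS⟩
      exact ordAt_eq_zero_of_isUnit hδ hv.1 hv.2 hu (specMap_germ hv.1 hvA hξA b).symm
    · rfl

end GrothLib.MoveZero4
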